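import Groth.Agent.SGA1Q.Properties
import Groth.Agent.SGA1Q.BaseChange

/-! Quotients in stages. -/

set_option autoImplicit false
set_option linter.style.haveILetI false
set_option linter.unusedSectionVars false
set_option backward.isDefEq.respectTransparency false
set_option backward.isDefEq.respectTransparency.types false

universe u

open CategoryTheory CategoryTheory.Limits AlgebraicGeometry TopologicalSpace

namespace Groth.Agent.Quot9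

variable {X Y Z : Scheme.{u}} {G N K : Type u} [Group G] [Group N] [Group K]
  {ρ : G →* Aut X} {pN : X ⟶ Y} {r : Y ⟶ Z}

theorem app_comp_apply (pN : X ⟶ Y) (r : Y ⟶ Z) (U : Z.Opens) (t : Γ(Z, U)) :
    ((pN ≫ r).app U).hom t = (pN.app (r ⁻¹ᵁ U)).hom ((r.app U).hom t) := rfl

theorem equiv_apply {σ : K →* Aut Y} (hinv : ∀ g : G, (ρ g).hom ≫ pN ≫ r = pN ≫ r)
    (hinv' : ∀ k : K, (σ k).hom ≫ r = r) (g : G) (k : K)
    (h : pN ≫ (σ k).hom = (ρ g).hom ≫ pN) (U : Z.Opens) (v : Γ(Y, r ⁻¹ᵁ U)) :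
    ((ρ g).hom.appLE ((pN ≫ r) ⁻¹ᵁ U) ((pN ≫ r) ⁻¹ᵁ U) (SGA1.preimage_le_of_inv ρ (pN ≫ r) hinv g U)).hom
      ((pN.app (r ⁻¹ᵁ U)).hom v) =
    (pN.app (r ⁻¹ᵁ U)).hom (((σ k).hom.appLE (r ⁻¹ᵁ U) (r ⁻¹ᵁ U)
      (SGA1.preimage_le_of_inv σ r hinv' k U)).hom v) := by
  show ((pN.app (r ⁻¹ᵁ U)) ≫ (ρ g).hom.appLE (pN ⁻¹ᵁ (r ⁻¹ᵁ U)) (pN ⁻¹ᵁ (r ⁻¹ᵁ U)) _).hom v =
    ((σ k).hom.appLE (r ⁻¹ᵁ U) (r ⁻¹ᵁ U) _ ≫ pN.app (r ⁻¹ᵁ U)).hom v
  rw [Scheme.Hom.app_eq_appLE, Scheme.Hom.appLE_comp_appLE, Scheme.Hom.appLE_comp_appLE]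
  exact congr(($(SGA1Q.appLE_congr_hom h.symm _ _)).hom v)

/-- A quotient of a quotient is a quotient. -/
theorem isQuot_comp {σ : K →* Aut Y} (j : N →* G) (hN : SGA1.IsQuot (ρ.comp j) pN)
    (hr : SGA1.IsQuot σ r) (φ : G → K) (hφ : Function.Surjective φ)
    (heq : ∀ g, pN ≫ (σ (φ g)).hom = (ρ g).hom ≫ pN) : SGA1.IsQuot ρ (pN ≫ r) := by
  haveI := hN.affine
  haveI := hr.affine
  have hinv : ∀ g : G, (ρ g).hom ≫ pN ≫ r = pN ≫ r := fun g => by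
    rw [← Category.assoc, ← heq g, Category.assoc, hr.inv]
  refine ⟨inferInstance, hinv, fun U a b h => hr.injective U (hN.injective _ h), fun U s => ⟨?_, fun h => ?_⟩⟩
  · rintro ⟨t, rfl⟩ g
    exact SGA1Q.appLE_app_of_inv hinv U g t
  · obtain ⟨v, hv⟩ := (hN.range_iff (r ⁻¹ᵁ U) s).mpr fun n => h (j n)
    obtain ⟨t, ht⟩ := (hr.range_iff U v).mpr fun k => by
      obtain ⟨g, rfl⟩ := hφ k
      refine hN.injective _ ?_
      rw [← equiv_apply hinv hr.inv g (φ g) (heq g) U v, hv]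
      exact h g
    exact ⟨t, by rw [app_comp_apply, ht]; exact hv⟩

/-- The second stage of a quotient. -/
theorem isQuot_of_comp [Finite N] {σ : K →* Aut Y} (j : N →* G) (hN : SGA1.IsQuot (ρ.comp j) pN)
    (hp : SGA1.IsQuot ρ (pN ≫ r)) (φ : G → K) (hφ : Function.Surjective φ)
    (heq : ∀ g, pN ≫ (σ (φ g)).hom = (ρ g).hom ≫ pN) : SGA1.IsQuot σ r := by
  have hinv : ∀ k, (σ k).hom ≫ r = r := fun k => by
    obtain ⟨g, rfl⟩ := hφ k
    exact (SGA1Q.desc_existsUnique_isQuot hN (pN ≫ r) fun n => hp.inv (j n)).unique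
      (by rw [← Category.assoc, heq, Category.assoc, hp.inv]) rfl
  refine ⟨(SGA1Q.isAffineHom_iff_of_isQuot hN rfl).mp hp.affine, hinv,
    fun U a b h => hp.injective U (by rw [app_comp_apply, app_comp_apply, h]), fun U s => ⟨?_, fun h => ?_⟩⟩
  · rintro ⟨t, rfl⟩ k
    exact SGA1Q.appLE_app_of_inv hinv U k t
  · obtain ⟨t, ht⟩ := (hp.range_iff U ((pN.app (r ⁻¹ᵁ U)).hom s)).mpr fun g => by
      rw [equiv_apply hp.inv hinv g (φ g) (heq g) U s, h (φ g)]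
    exact ⟨t, hN.injective _ ht⟩

end Groth.Agent.Quot9
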