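import Groth.Agent.SGA1Q.Affine
import Groth.Agent.SGA1Q.Properties
import Mathlib.AlgebraicGeometry.Morphisms.ClosedImmersion
import Mathlib.GroupTheory.Coset.Basic

/-! Quotients and open pieces permuted by the group. -/

set_option autoImplicit false
set_option linter.unusedSectionVars false
set_option linter.style.haveILetI false
set_option backward.isDefEq.respectTransparency false
set_option backward.isDefEq.respectTransparency.types false

universe u

open CategoryTheory CategoryTheory.Limits AlgebraicGeometry TopologicalSpace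

namespace Groth.Agent.Quot9

variable {X Z : Scheme.{u}} {G : Type u} [Group G] [Finite G] {ρ : G →* Aut X} {p : X ⟶ Z}

theorem bijective_appLE {X' X : Scheme.{u}} (j : X' ⟶ X) [IsOpenImmersion j] {U : X.Opens}
    (hU : U ≤ j.opensRange) {V : X'.Opens} (e : V ≤ j ⁻¹ᵁ U) (e' : j ⁻¹ᵁ U ≤ V) :
    Function.Bijective (j.appLE U V e).hom := by
  haveI := j.isIso_app U hU
  haveI : IsIso (homOfLE e) := by
    rw [show homOfLE e = eqToHom (le_antisymm e e') from Subsingleton.elim _ _]; infer_instance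
  haveI : IsIso (j.appLE U V e) := by rw [Scheme.Hom.appLE]; infer_instance
  exact ConcreteCategory.bijective_of_isIso _

variable (H : Subgroup G) (Y : X.Opens)

theorem mem_of_inv (ρY : H →* Aut (Y : Scheme.{u}))
    (hρY : ∀ h : H, (ρY h).hom ≫ Y.ι = Y.ι ≫ (ρ (h : G)).hom) (h : G) (hh : h ∈ H) {z : X} (hz : z ∈ Y) :
    (ρ h).hom z ∈ Y := by
  have := congr(($(hρY ⟨h, hh⟩)).base ⟨z, hz⟩)
  rw [show (ρ h).hom z = (Y.ι ≫ (ρ h).hom).base ⟨z, hz⟩ from rfl, ← this]
  exact ((ρY ⟨h, hh⟩).hom ⟨z, hz⟩).2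

theorem isClosed_piece (hcov : ∀ x : X, ∃ g : G, x ∈ (ρ g).hom.base '' (Y : Set X))
    (hdisj : ∀ g : G, g ∉ H → Disjoint ((ρ g).hom.base '' (Y : Set X)) (Y : Set X))
    (hst : ∀ h ∈ H, ∀ z ∈ Y, (ρ h).hom z ∈ Y) : IsClosed (Y : Set X) := by
  have hc : (Y : Set X)ᶜ = ⋃ g ∈ ((H : Set G))ᶜ, (ρ g).hom.base '' (Y : Set X) := by
    ext x
    simp only [Set.mem_compl_iff, Set.mem_iUnion, exists_prop, SetLike.mem_coe]
    constructor
    · intro hx
      obtain ⟨g, z, hz, rfl⟩ := hcov x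
      exact ⟨g, fun hg => hx (hst g hg z hz), z, hz, rfl⟩
    · rintro ⟨g, hg, hx⟩ hxY
      exact Set.disjoint_left.mp (hdisj g hg) hx hxY
  rw [← isOpen_compl_iff, hc]
  exact isOpen_biUnion fun g _ => (ρ g).hom.isOpenEmbedding.isOpenMap _ Y.2

/-- If `X` is the disjoint union of the translates of an open piece `Y` with stabiliser `H`, then a
quotient of `X` by `G` is a quotient of `Y` by `H`. -/
theorem isQuot_restrict_coset (hp : SGA1.IsQuot ρ p)
    (hcov : ∀ x : X, ∃ g : G, x ∈ (ρ g).hom.base '' (Y : Set X))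
    (hdisj : ∀ g : G, g ∉ H → Disjoint ((ρ g).hom.base '' (Y : Set X)) (Y : Set X))
    (ρY : H →* Aut (Y : Scheme.{u})) (hρY : ∀ h : H, (ρY h).hom ≫ Y.ι = Y.ι ≫ (ρ (h : G)).hom) :
    SGA1.IsQuot ρY (Y.ι ≫ p) := by
  classical
  have hst := fun h hh z hz => mem_of_inv H Y ρY hρY h hh (z := z) hz
  have hYc := isClosed_piece H Y hcov hdisj hst
  let C : X.Opens := ⟨(Y : Set X)ᶜ, hYc.isOpen_compl⟩
  haveI := hp.affine
  haveI : IsClosedImmersion Y.ι := IsClosedImmersion.of_isPreimmersion _ (by rw [Scheme.Opens.range_ι]; exact hYc)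
  have hinv : ∀ h : H, (ρY h).hom ≫ Y.ι ≫ p = Y.ι ≫ p := fun h => by
    rw [← Category.assoc, hρY h, Category.assoc, hp.inv]
  refine SGA1Q.isQuot_of_basis inferInstance hinv Set.univ (Opens.isBasis_iff_nbhd.mpr
    fun {W x} hx => ⟨W, trivial, hx, le_rfl⟩) (fun U _ => ?_) (fun U _ => ?_)
  all_goals
    set W := p ⁻¹ᵁ U with hW
    have stW : ∀ g : G, W ≤ (ρ g).hom ⁻¹ᵁ W := fun g => SGA1.preimage_le_of_inv ρ p hp.inv g U
    letI := SGA1Q.secAction ρ W stW
    have eα : Y.ι ⁻¹ᵁ W ≤ Y.ι ⁻¹ᵁ (Y ⊓ W) := fun y hy => ⟨y.2, hy⟩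
    have bα : Function.Bijective (Y.ι.appLE (Y ⊓ W) (Y.ι ⁻¹ᵁ W) eα).hom :=
      bijective_appLE Y.ι (inf_le_left.trans Y.opensRange_ι.ge) eα (fun y hy => hy.2)
    let res : ∀ V : X.Opens, V ≤ W → Γ(X, W) → Γ(X, V) := fun V h => (X.presheaf.map (homOfLE h).op).hom
    have hfac : ∀ a : Γ(Z, U), ((Y.ι ≫ p).app U).hom a =
        (Y.ι.appLE (Y ⊓ W) (Y.ι ⁻¹ᵁ W) eα).hom (res (Y ⊓ W) inf_le_right ((p.app U).hom a)) := by
      intro a
      show _ = (X.presheaf.map (homOfLE (inf_le_right : Y ⊓ W ≤ W)).op ≫ Y.ι.appLE (Y ⊓ W) (Y.ι ⁻¹ᵁ W) eα).hom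
        ((p.app U).hom a)
      rw [Scheme.Hom.map_appLE, Scheme.Hom.app_eq_appLE, Scheme.Hom.app_eq_appLE]
      exact congr(($((Scheme.Hom.appLE_comp_appLE Y.ι p U W (Y.ι ⁻¹ᵁ W) le_rfl le_rfl).symm)).hom a)
    -- two opens cover
    have hsep : ∀ a b : Γ(X, W), res (Y ⊓ W) inf_le_right a = res (Y ⊓ W) inf_le_right b →
        res (C ⊓ W) inf_le_right a = res (C ⊓ W) inf_le_right b → a = b := fun a b h1 h2 => by
      refine X.sheaf.eq_of_locally_eq₂ (homOfLE (inf_le_right : Y ⊓ W ≤ W))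
        (homOfLE (inf_le_right : C ⊓ W ≤ W)) (fun x hx => ?_) a b h1 h2
      by_cases hxY : x ∈ Y
      · exact Or.inl ⟨hxY, hx⟩
      · exact Or.inr ⟨hxY, hx⟩
  · -- injectivity
    intro a b hab
    rw [hfac, hfac] at hab
    have h0 := bα.injective hab
    refine hp.injective U ?_
    have hfixed : ∀ (t : Γ(Z, U)) (g : G), g • ((p.app U).hom t : Γ(X, W)) = (p.app U).hom t := fun t g =>
      SGA1Q.appLE_app_of_inv hp.inv U g⁻¹ t
    refine X.sheaf.eq_of_locally_eq' (fun g : G => (ρ g).hom ''ᵁ (Y ⊓ W)) W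
      (fun g => homOfLE ?_) ?_ _ _ fun g => ?_
    · rintro _ ⟨z, hz, rfl⟩; exact stW g hz.2
    · intro x hx
      obtain ⟨g, z, hz, rfl⟩ := hcov x
      refine Opens.mem_iSup.mpr ⟨g, z, ⟨hz, ?_⟩, rfl⟩
      show p z ∈ U
      rw [show p z = ((ρ g).hom ≫ p).base z by rw [hp.inv g]]
      exact hx
    · have eβ : Y ⊓ W ≤ (ρ g).hom ⁻¹ᵁ ((ρ g).hom ''ᵁ (Y ⊓ W)) := ((ρ g).hom.preimage_image_eq _).ge
      refine (bijective_appLE (ρ g).hom (fun x _ => (ρ g).hom.surjective x) eβ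
        ((ρ g).hom.preimage_image_eq _).le).injective ?_
      have key : ∀ t : Γ(Z, U), ((ρ g).hom.appLE ((ρ g).hom ''ᵁ (Y ⊓ W)) (Y ⊓ W) eβ).hom
          (res _ (by rintro _ ⟨z, hz, rfl⟩; exact stW g hz.2) ((p.app U).hom t)) =
          res (Y ⊓ W) inf_le_right ((p.app U).hom t) := by
        intro t
        show (X.presheaf.map _ ≫ (ρ g).hom.appLE _ _ _).hom ((p.app U).hom t) = _
        rw [Scheme.Hom.map_appLE]
        conv_rhs => rw [← SGA1Q.appLE_app_of_inv hp.inv U g t]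
        show _ = ((ρ g).hom.appLE W W _ ≫ X.presheaf.map (homOfLE (inf_le_right : Y ⊓ W ≤ W)).op).hom ((p.app U).hom t)
        rw [Scheme.Hom.appLE_map]
      exact (key a).trans (h0.trans (key b).symm)
  · -- invariants
    intro t ht
    obtain ⟨t', rfl⟩ := bα.surjective t
    obtain ⟨u, hu₁, hu₂⟩ : ∃ u : Γ(X, W), res (Y ⊓ W) inf_le_right u = t' ∧ res (C ⊓ W) inf_le_right u = 0 := by
      let Us : Bool → X.Opens := fun b => cond b (Y ⊓ W) (C ⊓ W)
      let sf : ∀ b, Γ(X, Us b) := fun b => match b with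
        | true => t'
        | false => (0 : Γ(X, C ⊓ W))
      have hempty : ∀ (V : X.Opens), V ≤ Y → V ≤ C → ∀ a b : Γ(X, V), a = b := fun V h1 h2 a b =>
        X.sheaf.eq_of_locally_eq' (fun e : PEmpty.{1} => e.elim) V (fun e => e.elim)
          (fun x hx => absurd (h1 hx) (h2 hx)) a b (fun e => e.elim)
      obtain ⟨u, hu, -⟩ := X.sheaf.existsUnique_gluing' Us W (fun b => homOfLE (by cases b <;> exact inf_le_right))
        (fun x hx => Opens.mem_iSup.mpr (if hxY : x ∈ Y then ⟨true, hxY, hx⟩ else ⟨false, hxY, hx⟩)) sf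
        (by
          rintro (_ | _) (_ | _)
          · rfl
          · exact hempty _ (inf_le_right.trans inf_le_left) (inf_le_left.trans inf_le_left) _ _
          · exact hempty _ (inf_le_left.trans inf_le_left) (inf_le_right.trans inf_le_left) _ _
          · rfl)
      exact ⟨u, hu true, hu false⟩
    have hrest : ∀ (g : G) (V V' : X.Opens) (hV : V ≤ W) (hV' : V' ≤ W) (e : V' ≤ (ρ g⁻¹).hom ⁻¹ᵁ V)
        (a : Γ(X, W)), res V' hV' (g • a) = ((ρ g⁻¹).hom.appLE V V' e).hom (res V hV a) := by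
      intro g V V' hV hV' e a
      show ((ρ g⁻¹).hom.appLE W W _ ≫ X.presheaf.map (homOfLE hV').op).hom a =
        (X.presheaf.map (homOfLE hV).op ≫ (ρ g⁻¹).hom.appLE V V' e).hom a
      rw [Scheme.Hom.appLE_map, Scheme.Hom.map_appLE]
    have hHu : ∀ h ∈ H, h • u = u := by
      intro h hh
      have e1 : Y ⊓ W ≤ (ρ h⁻¹).hom ⁻¹ᵁ (Y ⊓ W) := fun z hz => ⟨hst _ (H.inv_mem hh) z hz.1, stW _ hz.2⟩
      have e2 : C ⊓ W ≤ (ρ h⁻¹).hom ⁻¹ᵁ (C ⊓ W) := fun z hz => ⟨fun hz' => hz.1 (by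
        have := hst h hh _ hz'
        rwa [← Scheme.Hom.comp_apply, ← SGA1Q.hom_mul, mul_inv_cancel, SGA1Q.hom_one] at this), stW _ hz.2⟩
      refine hsep _ _ ?_ ?_
      · rw [hrest h _ _ inf_le_right inf_le_right e1, hu₁]
        apply bα.injective
        have := ht (⟨h, hh⟩⁻¹ : H)
        refine Eq.trans ?_ this
        show ((ρ h⁻¹).hom.appLE _ _ e1 ≫ Y.ι.appLE _ _ eα).hom t' =
          (Y.ι.appLE _ _ eα ≫ (ρY (⟨h, hh⟩⁻¹ : H)).hom.appLE _ _ _).hom t'
        rw [Scheme.Hom.appLE_comp_appLE, Scheme.Hom.appLE_comp_appLE]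
        exact congr(($(SGA1Q.appLE_congr_hom (hρY (⟨h, hh⟩⁻¹ : H)).symm _ _)).hom t')
      · rw [hrest h _ _ inf_le_right inf_le_right e2, hu₂, map_zero]
    cases nonempty_fintype G
    let s : Γ(X, W) := ∑ q : G ⧸ H, q.out • u
    have hsY : res (Y ⊓ W) inf_le_right s = t' := by
      show (X.presheaf.map (homOfLE (inf_le_right : Y ⊓ W ≤ W)).op).hom (∑ q : G ⧸ H, q.out • u) = t'
      rw [map_sum, Finset.sum_eq_single ((1 : G) : G ⧸ H)]
      · rw [hHu _ (by
          have := QuotientGroup.eq.mp (QuotientGroup.out_eq' ((1 : G) : G ⧸ H))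
          rw [mul_one] at this
          simpa using H.inv_mem this)]
        exact hu₁
      · intro q _ hq
        have hg : q.out ∉ H := fun hmem => hq (by
          rw [← QuotientGroup.out_eq' q]
          exact QuotientGroup.eq.mpr (by simpa using H.inv_mem hmem))
        have e : Y ⊓ W ≤ (ρ q.out⁻¹).hom ⁻¹ᵁ (C ⊓ W) := fun z hz => ⟨fun hz' =>
          Set.disjoint_left.mp (hdisj _ hg) (show z ∈ (ρ q.out).hom.base '' (Y : Set X) from
            ⟨_, hz', by rw [← Scheme.Hom.comp_apply, ← SGA1Q.hom_mul, mul_inv_cancel, SGA1Q.hom_one]; rfl⟩) hz.1,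
          stW _ hz.2⟩
        exact (hrest _ _ _ inf_le_right inf_le_right e u).trans (by rw [hu₂, map_zero])
      · simp
    have hsinv : ∀ g : G, g • s = s := by
      intro g
      show g • ∑ q : G ⧸ H, q.out • u = _
      rw [Finset.smul_sum]
      refine Fintype.sum_equiv (MulAction.toPerm g) _ _ fun q => ?_
      obtain ⟨h, hh, he⟩ : ∃ h ∈ H, g * q.out = (g • q).out * h := by
        refine ⟨(g • q).out⁻¹ * (g * q.out), ?_, by group⟩
        refine QuotientGroup.eq.mp ?_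
        rw [QuotientGroup.out_eq']
        conv_lhs => rw [← QuotientGroup.out_eq' q]
        rfl
      show g • q.out • u = (g • q).out • u
      rw [← mul_smul, he, mul_smul, hHu h hh]
    obtain ⟨a, ha⟩ := (hp.range_iff U s).mpr fun g => by
      have := hsinv g⁻¹
      rw [← inv_inv g]
      exact this
    exact ⟨a, by rw [hfac, ha, hsY]⟩

end Groth.Agent.Quot9
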