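import Groth.Agent.Quot9.Coset
import Groth.Agent.SGA1Q.Free
import Groth.Agent.SrcDescent.SchemeSmooth
import Mathlib.AlgebraicGeometry.Morphisms.Etale
import Mathlib.GroupTheory.QuotientGroup.Defs

/-! Quotients of separated etale schemes by finite groups are etale. -/

set_option autoImplicit false
set_option linter.style.haveILetI false
set_option linter.unusedSectionVars false
set_option backward.isDefEq.respectTransparency false
set_option backward.isDefEq.respectTransparency.types false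

universe u

open CategoryTheory CategoryTheory.Limits AlgebraicGeometry TopologicalSpace

namespace Groth.Agent.Quot9

variable {X X' Y : Scheme.{u}} {G : Type u} [Group G] [Finite G] {ρ : G →* Aut X}

theorem etale_of_free {p : X ⟶ X'} (hp : SGA1.IsQuot ρ p) (hfree : SGA1Q.FreeOnGeomPoints ρ)
    [LocallyOfFinitePresentation p] : Etale p := by
  haveI := SGA1Q.flat_of_free hfree hp
  haveI := SGA1Q.isIso_sigmaDesc_graphMap hfree hp
  haveI : IsOpenImmersion (pullback.diagonal p) := by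
    have h : pullback.diagonal p = Sigma.ι (fun _ : G => X) 1 ≫ Sigma.desc (fun g : G => SGA1Q.graphMap hp.inv g) := by
      rw [Sigma.ι_desc]
      apply pullback.hom_ext <;> simp [SGA1Q.graphMap] <;> rfl
    rw [h]
    infer_instance
  exact Etale.of_formallyUnramified_of_flat p

/-- A normal subgroup acting trivially can be removed. -/
theorem isQuot_lift {p : X ⟶ X'} (hp : SGA1.IsQuot ρ p) (N : Subgroup G) [N.Normal]
    (hN : N ≤ ρ.ker) : SGA1.IsQuot (QuotientGroup.lift N ρ hN) p :=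
  { affine := hp.affine
    inv := fun g => by obtain ⟨g, rfl⟩ := QuotientGroup.mk_surjective g; exact hp.inv g
    injective := hp.injective
    range_iff := fun U s => (hp.range_iff U s).trans
      ⟨fun h g => by obtain ⟨g, rfl⟩ := QuotientGroup.mk_surjective g; exact h g,
        fun h g => h (QuotientGroup.mk g)⟩ }

variable (f : X ⟶ Y) [Etale f] [IsSeparated f]

/-- The equalizer of an automorphism over `Y` and the identity. -/
noncomputable def fixOpen (hρ : ∀ g : G, (ρ g).hom ≫ f = f) (g : G) : X.Opens :=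
  pullback.lift (𝟙 X) (ρ g).hom ((Category.id_comp f).trans (hρ g).symm) ⁻¹ᵁ (pullback.diagonal f).opensRange

theorem isClosed_fixOpen (hρ : ∀ g : G, (ρ g).hom ≫ f = f) (g : G) :
    IsClosed (fixOpen f hρ g : Set X) :=
  IsClosed.preimage (pullback.lift (𝟙 X) (ρ g).hom ((Category.id_comp f).trans (hρ g).symm)).continuous
    (pullback.diagonal f).isClosedEmbedding.isClosed_range

theorem ι_fixOpen (hρ : ∀ g : G, (ρ g).hom ≫ f = f) (g : G) :
    (fixOpen f hρ g).ι ≫ (ρ g).hom = (fixOpen f hρ g).ι := by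
  let γ := pullback.lift (𝟙 X) (ρ g).hom ((Category.id_comp f).trans (hρ g).symm)
  have hr : Set.range ((fixOpen f hρ g).ι ≫ γ) ⊆ Set.range (pullback.diagonal f) := by
    rintro _ ⟨z, rfl⟩; exact z.2
  have e := IsOpenImmersion.lift_fac (pullback.diagonal f) ((fixOpen f hρ g).ι ≫ γ) hr
  have e1 := congrArg (fun m => m ≫ pullback.fst f f) e
  have e2 := congrArg (fun m => m ≫ pullback.snd f f) e
  simp only [Category.assoc, γ, pullback.lift_fst, pullback.lift_snd, pullback.diagonal_fst,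
    pullback.diagonal_snd, Category.comp_id] at e1 e2
  rw [← e2, e1]

theorem mem_fixOpen (hρ : ∀ g : G, (ρ g).hom ≫ f = f) (g : G) {T : Scheme.{u}} (t : T ⟶ X)
    (ht : t ≫ (ρ g).hom = t) (z : T) : t z ∈ fixOpen f hρ g := by
  refine ⟨t z, ?_⟩
  have e : t ≫ pullback.diagonal f =
      t ≫ pullback.lift (𝟙 X) (ρ g).hom ((Category.id_comp f).trans (hρ g).symm) := by
    apply pullback.hom_ext <;> simp [ht]
  exact congr(($e).base z)

theorem fix_mul (hρ : ∀ g : G, (ρ g).hom ≫ f = f) {g h : G} {x : X} (hg : x ∈ fixOpen f hρ g)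
    (hh : x ∈ fixOpen f hρ h) : x ∈ fixOpen f hρ (g * h) := by
  let W := fixOpen f hρ g ⊓ fixOpen f hρ h
  have e : ∀ k, W ≤ fixOpen f hρ k → W.ι ≫ (ρ k).hom = W.ι := fun k hk => by
    rw [← X.homOfLE_ι hk, Category.assoc, ι_fixOpen]
  exact mem_fixOpen f hρ _ W.ι (by
    rw [SGA1Q.hom_mul, ← Category.assoc, e h inf_le_right, e g inf_le_left]) ⟨x, hg, hh⟩

theorem fix_one (hρ : ∀ g : G, (ρ g).hom ≫ f = f) (x : X) : x ∈ fixOpen f hρ 1 :=
  mem_fixOpen f hρ 1 (𝟙 X) (by rw [SGA1Q.hom_one]; simp) x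

/-- In a finite group a multiplicatively closed subset containing `1` is a subgroup. -/
@[reducible] def ofClosure {G : Type u} [Group G] [Finite G] (s : Set G) (h1 : 1 ∈ s)
    (hm : ∀ {a b : G}, a ∈ s → b ∈ s → a * b ∈ s) : Subgroup G :=
  { carrier := s
    one_mem' := h1
    mul_mem' := hm
    inv_mem' := fun {a} ha => by
      have hp : ∀ n : ℕ, a ^ n ∈ s := fun n => by
        induction n with
        | zero => simpa using h1
        | succ n ih => rw [pow_succ]; exact hm ih ha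
      obtain ⟨n, hn⟩ := Nat.exists_eq_add_of_le (orderOf_pos a : 1 ≤ orderOf a)
      have : a⁻¹ = a ^ n := inv_eq_of_mul_eq_one_right (by rw [← pow_succ', add_comm 1 n] at *; rw [← hn]; exact pow_orderOf_eq_one a)
      rw [this]
      exact hp n }

/-- The subgroup fixing the geometric points over `x`. -/
noncomputable def inertia (hρ : ∀ g : G, (ρ g).hom ≫ f = f) (x : X) : Subgroup G :=
  ofClosure {g | x ∈ fixOpen f hρ g} (fix_one f hρ x) (fun hg hh => fix_mul f hρ hg hh)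

theorem mem_inertia (hρ : ∀ g : G, (ρ g).hom ≫ f = f) (x : X) (g : G) :
    g ∈ inertia f hρ x ↔ x ∈ fixOpen f hρ g := Iff.rfl

theorem fix_conj (hρ : ∀ g : G, (ρ g).hom ≫ f = f) (k g : G) (x : X) (hg : x ∈ fixOpen f hρ g) :
    (ρ k).hom x ∈ fixOpen f hρ (k * g * k⁻¹) :=
  mem_fixOpen f hρ _ ((fixOpen f hρ g).ι ≫ (ρ k).hom) (by
    rw [Category.assoc, ← SGA1Q.hom_mul, mul_assoc k g, mul_assoc k, mul_assoc, inv_mul_cancel, mul_one,
      SGA1Q.hom_mul, ← Category.assoc, ι_fixOpen]) ⟨x, hg⟩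

theorem mem_inertia_smul (hρ : ∀ g : G, (ρ g).hom ≫ f = f) (k g : G) (x : X) :
    g ∈ inertia f hρ ((ρ k).hom x) ↔ k⁻¹ * g * k ∈ inertia f hρ x := by
  rw [mem_inertia, mem_inertia]
  constructor
  · intro h
    have := fix_conj f hρ k⁻¹ g _ h
    rwa [← Scheme.Hom.comp_apply, ← SGA1Q.hom_mul, inv_mul_cancel, SGA1Q.hom_one, inv_inv] at this
  · intro h
    have := fix_conj f hρ k _ _ h
    rwa [show k * (k⁻¹ * g * k) * k⁻¹ = g by group] at this

/-- The locus with given inertia. -/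
noncomputable def stratum (hρ : ∀ g : G, (ρ g).hom ≫ f = f) (H : Subgroup G) : X.Opens where
  carrier := {z | inertia f hρ z = H}
  is_open' := by
    have : {z | inertia f hρ z = H} = ⋂ g : G, {z | g ∈ inertia f hρ z ↔ g ∈ H} := by
      ext z
      simp only [Set.mem_setOf_eq, Set.mem_iInter]
      exact ⟨fun h g => by rw [h], fun h => Subgroup.ext h⟩
    rw [this]
    refine isOpen_iInter_of_finite fun g => ?_
    by_cases hg : g ∈ H
    · simp only [hg, iff_true]; exact (fixOpen f hρ g).2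
    · simp only [hg, iff_false]; exact (isClosed_fixOpen f hρ g).isOpen_compl

variable [IsLocallyNoetherian X']

theorem etale_quot (hρ : ∀ g : G, (ρ g).hom ≫ f = f) (p : X ⟶ X') (hp : SGA1.IsQuot ρ p)
    [LocallyOfFinitePresentation p] : Etale p := by
  let 𝒰 : X.OpenCover := X.openCoverOfIsOpenCover (fun H : Subgroup G => stratum f hρ H)
    (IsOpenCover.mk (top_le_iff.mp fun x _ => Opens.mem_iSup.mpr ⟨inertia f hρ x, rfl⟩))
  rw [IsZariskiLocalAtSource.iff_of_openCover (P := @Etale) 𝒰]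
  intro (H : Subgroup G)
  show Etale ((stratum f hρ H).ι ≫ p)
  let N := Subgroup.normalizer (H : Set G)
  -- the saturation
  let Vs : Set X := {z | ∃ k : G, (ρ k).hom z ∈ stratum f hρ H}
  have hVopen : IsOpen Vs := by
    rw [show Vs = ⋃ k : G, (ρ k).hom ⁻¹' (stratum f hρ H : Set X) by ext z; simp [Vs]]
    exact isOpen_iUnion fun k => (stratum f hρ H).2.preimage (ρ k).hom.continuous
  haveI : IsIntegralHom p := SGA1Q.isIntegralHom hp
  let W : X'.Opens := ⟨(p.base '' Vsᶜ)ᶜ, (p.isClosedMap _ hVopen.isClosed_compl).isOpen_compl⟩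
  have hmemW : ∀ z : X, z ∈ p ⁻¹ᵁ W ↔ z ∈ Vs := by
    intro z
    constructor
    · intro hz; by_contra h; exact hz ⟨z, h, rfl⟩
    · rintro ⟨k, hk⟩ ⟨w, hw, hwz⟩
      obtain ⟨g, rfl⟩ := (SGA1Q.orbit_iff hp z w).mp hwz.symm
      apply hw
      refine ⟨k * g⁻¹, ?_⟩
      rw [← Scheme.Hom.comp_apply, ← SGA1Q.hom_mul]
      simpa [mul_assoc] using hk
  have hsub : stratum f hρ H ≤ p ⁻¹ᵁ W := fun z hz => (hmemW z).mpr ⟨1, by rw [SGA1Q.hom_one]; exact hz⟩
  have stV : ∀ g : G, p ⁻¹ᵁ W ≤ (ρ g).hom ⁻¹ᵁ (p ⁻¹ᵁ W) := fun g => SGA1.preimage_le_of_inv ρ p hp.inv g W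
  let ρW := SGA1Q.restrictAction ρ (p ⁻¹ᵁ W) stV
  have hpW := SGA1Q.isQuot_morphismRestrict hp W ρW (SGA1Q.restrictAction_hom_ι ρ _ stV)
  let YH : (p ⁻¹ᵁ W).toScheme.Opens := (p ⁻¹ᵁ W).ι ⁻¹ᵁ stratum f hρ H
  have hval : ∀ (g : G) (z : (p ⁻¹ᵁ W).toScheme),
      (p ⁻¹ᵁ W).ι ((ρW g).hom z) = (ρ g).hom ((p ⁻¹ᵁ W).ι z) := fun g z =>
    congr(($(SGA1Q.restrictAction_hom_ι ρ _ stV g)).base z)
  have hnorm : ∀ (g : G) (z : X), z ∈ stratum f hρ H → ((ρ g).hom z ∈ stratum f hρ H ↔ g ∈ N) := by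
    intro g z (hz : inertia f hρ z = H)
    constructor
    · intro h
      refine Subgroup.mem_normalizer_iff'.mpr fun a => ?_
      have e := mem_inertia_smul f hρ g (g * a) z
      rw [show inertia f hρ ((ρ g).hom z) = H from h, hz] at e
      rw [e]
      simp [mul_assoc]
    · intro hg
      show inertia f hρ _ = H
      ext a
      rw [mem_inertia_smul, hz]
      exact ((Subgroup.mem_normalizer_iff''.mp hg) a).symm
  have hcov : ∀ z : (p ⁻¹ᵁ W).toScheme, ∃ g : G, z ∈ (ρW g).hom.base '' (YH : Set _) := by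
    intro z
    obtain ⟨k, hk⟩ := (hmemW z.1).mp z.2
    refine ⟨k⁻¹, (ρW k).hom z, ?_, ?_⟩
    · show (p ⁻¹ᵁ W).ι ((ρW k).hom z) ∈ stratum f hρ H
      rw [hval]; exact hk
    · rw [← Scheme.Hom.comp_apply, ← SGA1Q.hom_mul, inv_mul_cancel, SGA1Q.hom_one]; rfl
  have hdisj : ∀ g : G, g ∉ N → Disjoint ((ρW g).hom.base '' (YH : Set _)) (YH : Set _) := by
    intro g hg
    rw [Set.disjoint_left]
    rintro _ ⟨z, hz, rfl⟩ hz'
    refine hg ((hnorm g _ hz).mp ?_)
    rw [← hval]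
    exact hz'
  have stY : ∀ h : N, YH ≤ ((ρW.comp N.subtype) h).hom ⁻¹ᵁ YH := fun h z hz => by
    show (p ⁻¹ᵁ W).ι ((ρW h).hom z) ∈ stratum f hρ H
    rw [hval]; exact (hnorm _ _ hz).mpr h.2
  let ρY := SGA1Q.restrictAction (ρW.comp N.subtype) YH stY
  have hq := isQuot_restrict_coset N YH hpW hcov hdisj ρY
    (fun h => SGA1Q.restrictAction_hom_ι (ρW.comp N.subtype) YH stY h)
  let HN : Subgroup N := H.subgroupOf N
  haveI : HN.Normal := Subgroup.normal_in_normalizer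
  have hker : HN ≤ ρY.ker := by
    intro h hh
    refine Iso.ext ((cancel_mono YH.ι).mp ((cancel_mono (p ⁻¹ᵁ W).ι).mp ?_))
    rw [SGA1Q.restrictAction_hom_ι, Category.assoc]
    show YH.ι ≫ (ρW h).hom ≫ (p ⁻¹ᵁ W).ι = (𝟙 _ ≫ YH.ι) ≫ (p ⁻¹ᵁ W).ι
    rw [SGA1Q.restrictAction_hom_ι, Category.id_comp]
    have hle : Set.range (YH.ι ≫ (p ⁻¹ᵁ W).ι) ⊆ Set.range (fixOpen f hρ (h : G)).ι := by
      rintro _ ⟨z, rfl⟩
      rw [Scheme.Opens.range_ι]
      exact (mem_inertia f hρ _ _).mp ((show inertia f hρ _ = H from z.2).symm ▸ hh)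
    rw [← IsOpenImmersion.lift_fac _ _ hle, ← Category.assoc]
    nth_rewrite 1 [← IsOpenImmersion.lift_fac _ _ hle]
    rw [Category.assoc, ι_fixOpen]
  have hq' := isQuot_lift hq HN hker
  have hfree : SGA1Q.FreeOnGeomPoints (QuotientGroup.lift HN ρY hker) := by
    intro K _ _ ξ g hg
    obtain ⟨g, rfl⟩ := QuotientGroup.mk_surjective g
    rw [QuotientGroup.eq_one_iff]
    show (g : G) ∈ H
    let pt : Spec (CommRingCat.of K) := IsLocalRing.closedPoint K
    have hz : inertia f hρ ((p ⁻¹ᵁ W).ι (YH.ι (ξ pt))) = H := (ξ pt).2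
    rw [← hz, mem_inertia]
    refine mem_fixOpen f hρ _ (ξ ≫ YH.ι ≫ (p ⁻¹ᵁ W).ι) ?_ pt
    have hg' : ξ ≫ (ρY g).hom = ξ := hg
    conv_rhs => rw [← hg']
    simp only [Category.assoc]
    rw [← Category.assoc (ρY g).hom, SGA1Q.restrictAction_hom_ι, Category.assoc]
    show _ = ξ ≫ YH.ι ≫ (ρW g).hom ≫ (p ⁻¹ᵁ W).ι
    rw [SGA1Q.restrictAction_hom_ι]
  haveI : LocallyOfFiniteType (YH.ι ≫ (p ∣_ W)) := inferInstance
  haveI : IsLocallyNoetherian W.toScheme := inferInstance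
  haveI : LocallyOfFinitePresentation (YH.ι ≫ (p ∣_ W)) := inferInstance
  haveI := etale_of_free hq' hfree
  have hr : Set.range (stratum f hρ H).ι ⊆ Set.range (YH.ι ≫ (p ⁻¹ᵁ W).ι) := by
    rintro _ ⟨z, rfl⟩
    exact ⟨⟨⟨z.1, hsub z.2⟩, z.2⟩, rfl⟩
  have e : (stratum f hρ H).ι ≫ p =
      IsOpenImmersion.lift (YH.ι ≫ (p ⁻¹ᵁ W).ι) _ hr ≫ (YH.ι ≫ (p ∣_ W)) ≫ W.ι := by
    rw [Category.assoc, morphismRestrict_ι, ← Category.assoc YH.ι, IsOpenImmersion.lift_fac_assoc]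
  haveI : IsOpenImmersion (IsOpenImmersion.lift (YH.ι ≫ (p ⁻¹ᵁ W).ι) _ hr) := by
    have : IsOpenImmersion (IsOpenImmersion.lift (YH.ι ≫ (p ⁻¹ᵁ W).ι) _ hr ≫ YH.ι ≫ (p ⁻¹ᵁ W).ι) := by
      rw [IsOpenImmersion.lift_fac]; infer_instance
    exact IsOpenImmersion.of_comp _ (YH.ι ≫ (p ⁻¹ᵁ W).ι)
  rw [e]
  infer_instance

end Groth.Agent.Quot9
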